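import Groth.Agent.Lib.Helper5.LocRepF.Abs

set_option autoImplicit false
universe u
open CategoryTheory CategoryTheory.Limits AlgebraicGeometry Opposite

namespace Groth.Agent.Lib.Helper5.LocRepF

variable {S : Scheme.{u}} {F : (Over S)ᵒᵖ ⥤ Type u}
  {ι : Type u} (W : ι → Over S) (ξ : ∀ i, F.obj (op (W i)))

/-- a section of the absolute functor. -/
def toAbs {T₀ : Scheme.{u}} (m : AbsPt F T₀) : (absF F).obj (op T₀) := m

theorem yonedaSymm_app {T₀ T₁ : Scheme.{u}} (m : (absF F).obj (op T₀)) (φ : T₁ ⟶ T₀) :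
    (yonedaEquiv.symm m).app (op T₁) φ = absMap F φ m :=
  yonedaEquiv_symm_app_apply m (op T₁) φ

/-- the morphism from the `i`-th representable functor. -/
noncomputable def fmap (i : ι) : yoneda.obj (W i).left ⟶ absF F :=
  yonedaEquiv.symm (toAbs ⟨(W i).hom, ξ i⟩)

theorem fmap_app (i : ι) {T₁ : Scheme.{u}} (a : T₁ ⟶ (W i).left) :
    (fmap W ξ i).app (op T₁) a = absMap F a (⟨(W i).hom, ξ i⟩ : AbsPt F (W i).left) :=
  yonedaSymm_app _ a

theorem absMap_eq_iff {T₁ T₀ T₀' : Scheme.{u}} (φ : T₁ ⟶ T₀) (ψ : T₁ ⟶ T₀')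
    (m : AbsPt F T₀) (m' : AbsPt F T₀') :
    absMap F φ m = absMap F ψ m' ↔ ∃ h : φ ≫ m.1 = ψ ≫ m'.1,
      F.map (oHom φ m.1).op m.2 = F.map (castHom h ≫ oHom ψ m'.1).op m'.2 := by
  rw [absPt_ext_iff]
  constructor
  · rintro ⟨h, hb⟩
    have h' : φ ≫ m.1 = ψ ≫ m'.1 := h
    refine ⟨h', ?_⟩
    have hb' : F.map (oHom φ m.1).op m.2 = F.map (castHom h').op (F.map (oHom ψ m'.1).op m'.2) := hb
    rw [hb', map_map]
  · rintro ⟨h, hb⟩
    refine ⟨h, ?_⟩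
    change F.map (oHom φ m.1).op m.2 = F.map (castHom h).op (F.map (oHom ψ m'.1).op m'.2)
    rw [hb, map_map]


section Main
variable (hinj : ∀ (i : ι) (T : Over S), Function.Injective (fun a : T ⟶ W i => F.map a.op (ξ i)))
  (U : ∀ (_ : ι) (T₀ : Scheme.{u}) (t : T₀ ⟶ S) (_ : F.obj (op (Over.mk t))), T₀.Opens)
  (hU : ∀ (i : ι) (T₀ : Scheme.{u}) (t : T₀ ⟶ S) (b : F.obj (op (Over.mk t))) (T₁ : Scheme.{u})
      (φ : T₁ ⟶ T₀), Set.range φ ⊆ (U i T₀ t b : Set T₀) ↔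
        ∃ a : Over.mk (φ ≫ t) ⟶ W i, F.map a.op (ξ i) = F.map (oHom φ t).op b)

include hinj hU in
theorem fmap_openImmersion (i : ι) : IsOpenImmersion.presheaf (fmap W ξ i) := by
  apply MorphismProperty.relative.of_exists
  intro T₀ g
  obtain ⟨m, rfl⟩ : ∃ m : (absF F).obj (op T₀), g = yonedaEquiv.symm m :=
    ⟨yonedaEquiv g, (Equiv.symm_apply_apply _ _).symm⟩
  obtain ⟨t, b⟩ := m
  let U₀ : T₀.Opens := U i T₀ t b
  obtain ⟨a₀, ha₀⟩ := (hU i T₀ t b _ U₀.ι).1 (by rw [Scheme.Opens.range_ι])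
  refine ⟨U₀, yoneda.map a₀.left, U₀.ι, ?_, inferInstance⟩
  apply IsPullback.of_forall_isPullback_app
  rintro ⟨T₁⟩
  rw [Types.isPullback_iff]
  have key : ∀ (a' : T₁ ⟶ (W i).left) (φ : T₁ ⟶ T₀),
      ((fmap W ξ i).app (op T₁) a' = (yonedaEquiv.symm (toAbs ⟨t, b⟩)).app (op T₁) φ) ↔
        ∃ h : a' ≫ (W i).hom = φ ≫ t,
          F.map (oHom a' (W i).hom).op (ξ i) = F.map (castHom h ≫ oHom φ t).op b := by
    intro a' φ
    constructor
    · intro hh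
      exact (absMap_eq_iff a' φ (⟨(W i).hom, ξ i⟩ : AbsPt F (W i).left) (⟨t, b⟩ : AbsPt F T₀)).1
        ((fmap_app W ξ i a').symm.trans (hh.trans (yonedaSymm_app _ φ)))
    · intro hh
      exact (fmap_app W ξ i a').trans (((absMap_eq_iff a' φ
        (⟨(W i).hom, ξ i⟩ : AbsPt F (W i).left) (⟨t, b⟩ : AbsPt F T₀)).2 hh).trans
          (yonedaSymm_app _ φ).symm)
  have hw : ∀ x : T₁ ⟶ U₀, (fmap W ξ i).app (op T₁) (x ≫ a₀.left)
      = (yonedaEquiv.symm (toAbs ⟨t, b⟩)).app (op T₁) (x ≫ U₀.ι) := by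
    intro x
    rw [key]
    have h : (x ≫ a₀.left) ≫ (W i).hom = (x ≫ U₀.ι) ≫ t := by
      rw [Category.assoc, Over.w a₀]
      rfl
    refine ⟨h, ?_⟩
    change F.map (oHom (x ≫ a₀.left) (W i).hom).op (ξ i)
      = F.map (castHom h ≫ oHom (x ≫ U₀.ι) t).op b
    let xx : Over.mk ((x ≫ a₀.left) ≫ (W i).hom) ⟶ Over.mk (U₀.ι ≫ t) :=
      Over.homMk x (by
        change x ≫ U₀.ι ≫ t = (x ≫ a₀.left) ≫ (W i).hom
        rw [h, Category.assoc])
    have e1 : F.map (castHom h ≫ oHom (x ≫ U₀.ι) t).op b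
        = F.map xx.op (F.map (oHom U₀.ι t).op b) := by
      rw [map_map]
      apply map_congr_left
      simp [xx]
    rw [e1, ← ha₀, map_map]
    apply map_congr_left
    simp [xx]
  refine ⟨?_, ?_, ?_⟩
  · apply ConcreteCategory.hom_ext
    intro x
    exact hw x
  · rintro (x : T₁ ⟶ U₀) (y : T₁ ⟶ U₀) ⟨-, h2⟩
    have h2' : x ≫ U₀.ι = y ≫ U₀.ι := h2
    exact (cancel_mono U₀.ι).1 h2'
  · intro (a' : T₁ ⟶ (W i).left) (φ : T₁ ⟶ T₀) hh
    have hh' : (fmap W ξ i).app (op T₁) a' = (yonedaEquiv.symm (toAbs ⟨t, b⟩)).app (op T₁) φ := hh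
    rw [key] at hh'
    obtain ⟨h, hb⟩ := hh'
    have h' : a' ≫ (W i).hom = φ ≫ t := h
    have hb' : F.map (oHom a' (W i).hom).op (ξ i) = F.map (castHom h' ≫ oHom φ t).op b := hb
    let â : Over.mk (φ ≫ t) ⟶ W i := Over.homMk a' h'
    have hâ : F.map â.op (ξ i) = F.map (oHom φ t).op b := by
      apply map_castHom_injective F h'
      rw [map_map, map_map, ← hb']
      apply map_congr_left
      simp [â]
    have hr : Set.range φ ⊆ (U₀ : Set T₀) := (hU i T₀ t b _ φ).2 ⟨â, hâ⟩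
    let x : T₁ ⟶ U₀ := IsOpenImmersion.lift U₀.ι φ (by rwa [Scheme.Opens.range_ι])
    have hx : x ≫ U₀.ι = φ := IsOpenImmersion.lift_fac _ _ _
    refine ⟨x, ?_, hx⟩
    change x ≫ a₀.left = a'
    let xx : Over.mk (φ ≫ t) ⟶ Over.mk (U₀.ι ≫ t) := Over.homMk x (by
      change x ≫ U₀.ι ≫ t = φ ≫ t
      rw [← Category.assoc, hx])
    have : xx ≫ a₀ = â := by
      apply hinj i
      change F.map (xx ≫ a₀).op (ξ i) = F.map â.op (ξ i)
      rw [hâ, ← map_map, ha₀, map_map]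
      apply map_congr_left
      simpa [xx] using hx
    exact congrArg (fun k => k.left) this


include hU in
theorem fmap_locallySurjective
    (hcov : ∀ (T₀ : Scheme.{u}) (t : T₀ ⟶ S) (b : F.obj (op (Over.mk t))) (x : T₀),
      ∃ i, x ∈ U i T₀ t b) :
    Presheaf.IsLocallySurjective Scheme.zariskiTopology (Sigma.desc (fmap W ξ)) := by
  refine ⟨fun {T₀} m => ?_⟩
  obtain ⟨t, b⟩ := m
  have hc : TopologicalSpace.IsOpenCover (fun i => U i T₀ t b) := by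
    apply TopologicalSpace.IsOpenCover.mk
    rw [eq_top_iff]
    intro x _
    rw [TopologicalSpace.Opens.mem_iSup]
    exact hcov T₀ t b x
  let 𝒰 : Scheme.OpenCover.{u} T₀ := T₀.openCoverOfIsOpenCover _ hc
  refine Scheme.zariskiTopology.superset_covering ?_ 𝒰.mem_grothendieckTopology
  rw [Sieve.ofArrows, Sieve.generate_le_iff]
  rintro T₁ _ ⟨i⟩
  let U₀ : T₀.Opens := U i T₀ t b
  obtain ⟨a₀, ha₀⟩ := (hU i T₀ t b _ U₀.ι).1 (by rw [Scheme.Opens.range_ι])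
  change ∃ s, (Sigma.desc (fmap W ξ)).app (op (U₀ : Scheme.{u})) s
    = (absF F).map U₀.ι.op (toAbs ⟨t, b⟩)
  refine ⟨(Sigma.ι (fun i => yoneda.obj (W i).left) i).app (op (U₀ : Scheme.{u})) a₀.left, ?_⟩
  rw [← NatTrans.comp_app_apply, Sigma.ι_desc]
  refine (fmap_app W ξ i a₀.left).trans ?_
  change absMap F a₀.left (⟨(W i).hom, ξ i⟩ : AbsPt F (W i).left) = absMap F U₀.ι ⟨t, b⟩
  rw [absMap_eq_iff]
  refine ⟨Over.w a₀, ?_⟩
  change F.map (oHom a₀.left (W i).hom).op (ξ i) = F.map (castHom _ ≫ oHom U₀.ι t).op b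
  rw [← map_map, ← ha₀, map_map]
  apply map_congr_left
  simp

include hinj hU in
/-- a Zariski sheaf on schemes over `S` covered by representable open subfunctors is
representable. -/
theorem isRepresentable_of_openCover (hF : IsZarSheaf.{u + 1} F)
    (hcov : ∀ (T₀ : Scheme.{u}) (t : T₀ ⟶ S) (b : F.obj (op (Over.mk t))) (x : T₀),
      ∃ i, x ∈ U i T₀ t b) :
    F.IsRepresentable := by
  let Fs : Sheaf Scheme.zariskiTopology.{u} (Type u) :=
    ⟨absF F, (isSheaf_iff_isSheaf_of_type _ _).2 (absF_isSheaf hF)⟩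
  haveI : Presheaf.IsLocallySurjective Scheme.zariskiTopology
      (Sigma.desc (fun i => (fmap W ξ i : yoneda.obj (W i).left ⟶ Fs.1))) :=
    fmap_locallySurjective W ξ U hU hcov
  have h := Scheme.LocalRepresentability.isRepresentable (F := Fs) (f := fmap W ξ)
    (fun i => fmap_openImmersion W ξ hinj U hU i)
  obtain ⟨E₀, ⟨r⟩⟩ := h
  obtain ⟨r'⟩ := rep_of_absF (F := F) r
  exact ⟨⟨_, ⟨r'⟩⟩⟩

end Main

end Groth.Agent.Lib.Helper5.LocRepF
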