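import Mathlib

set_option autoImplicit false
universe w u
open CategoryTheory CategoryTheory.Limits AlgebraicGeometry Opposite

namespace Groth.Agent.Lib.Helper5.LocRepF

variable {S : Scheme.{u}} (F : (Over S)ᵒᵖ ⥤ Type u)

/-- the identity of `T`, as a morphism between two equal structures over `S`. -/
def castHom {T : Scheme.{u}} {t t' : T ⟶ S} (h : t = t') : Over.mk t ⟶ Over.mk t' :=
  Over.homMk (𝟙 T) (by simp [h])

@[simp] theorem castHom_left {T : Scheme.{u}} {t t' : T ⟶ S} (h : t = t') :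
    (castHom h).left = 𝟙 T := rfl

theorem castHom_rfl {T : Scheme.{u}} (t : T ⟶ S) : castHom (rfl : t = t) = 𝟙 (Over.mk t) := rfl

/-- a morphism of schemes as a morphism over `S`. -/
def oHom {T T' : Scheme.{u}} (φ : T' ⟶ T) (t : T ⟶ S) : Over.mk (φ ≫ t) ⟶ Over.mk t :=
  Over.homMk φ rfl

@[simp] theorem oHom_left {T T' : Scheme.{u}} (φ : T' ⟶ T) (t : T ⟶ S) : (oHom φ t).left = φ := rfl

/-- the sections of the absolute functor. -/
abbrev AbsPt (T : Scheme.{u}) : Type u := Σ t : T ⟶ S, F.obj (op (Over.mk t))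

variable {F} in
theorem absPt_ext {T : Scheme.{u}} (m m' : AbsPt F T) (h : m.1 = m'.1)
    (hb : m.2 = F.map (castHom h).op m'.2) : m = m' := by
  obtain ⟨t, b⟩ := m
  obtain ⟨t', b'⟩ := m'
  dsimp only at h
  subst h
  rw [castHom_rfl, op_id, F.map_id] at hb
  dsimp only at hb
  rw [hb]
  rfl

variable {F} in
theorem absPt_ext_iff {T : Scheme.{u}} (m m' : AbsPt F T) :
    m = m' ↔ ∃ h : m.1 = m'.1, m.2 = F.map (castHom h).op m'.2 := by
  constructor
  · rintro rfl
    refine ⟨rfl, ?_⟩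
    rw [castHom_rfl, op_id, F.map_id]
    rfl
  · rintro ⟨h, hb⟩
    exact absPt_ext m m' h hb

/-- the action of a morphism on sections of the absolute functor. -/
def absMap {T T' : Scheme.{u}} (φ : T' ⟶ T) (m : AbsPt F T) : AbsPt F T' :=
  ⟨φ ≫ m.1, F.map (oHom φ m.1).op m.2⟩

theorem absMap_id {T : Scheme.{u}} (m : AbsPt F T) : absMap F (𝟙 T) m = m := by
  refine absPt_ext _ _ (Category.id_comp _) ?_
  have : oHom (𝟙 T) m.1 = castHom (Category.id_comp m.1) := rfl
  change F.map (oHom (𝟙 T) m.1).op m.2 = _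
  rw [this]
  rfl

theorem absMap_comp {T T' T'' : Scheme.{u}} (ψ : T'' ⟶ T') (φ : T' ⟶ T) (m : AbsPt F T) :
    absMap F (ψ ≫ φ) m = absMap F ψ (absMap F φ m) := by
  refine absPt_ext _ _ (Category.assoc _ _ _) ?_
  change F.map (oHom (ψ ≫ φ) m.1).op m.2
    = F.map (castHom _).op (F.map (oHom ψ (φ ≫ m.1)).op (F.map (oHom φ m.1).op m.2))
  rw [← Functor.map_comp_apply, ← Functor.map_comp_apply, ← op_comp, ← op_comp]
  congr 2

/-- the absolute functor attached to a functor on schemes over `S`. -/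
def absF : Scheme.{u}ᵒᵖ ⥤ Type u where
  obj T := AbsPt F T.unop
  map {T T'} φ := TypeCat.ofHom fun m => absMap F φ.unop m
  map_id T := ConcreteCategory.hom_ext _ _ fun m => absMap_id F m
  map_comp φ ψ := ConcreteCategory.hom_ext _ _ fun m => absMap_comp F ψ.unop φ.unop m

@[simp] theorem absF_map_apply {T T' : Scheme.{u}} (φ : T' ⟶ T) (m : AbsPt F T) :
    (absF F).map φ.op m = absMap F φ m := rfl


theorem map_congr_left {T T' : Over S} (φ ψ : T' ⟶ T) (h : φ.left = ψ.left) (x : F.obj (op T)) :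
    F.map φ.op x = F.map ψ.op x := by
  have : φ = ψ := Over.OverMorphism.ext h
  rw [this]

theorem map_map {A B C : Over S} (φ : A ⟶ B) (ψ : B ⟶ C) (x : F.obj (op C)) :
    F.map φ.op (F.map ψ.op x) = F.map (φ ≫ ψ).op x := by
  rw [op_comp, Functor.map_comp_apply]

theorem castHom_comp {T : Scheme.{u}} {t t' t'' : T ⟶ S} (h : t = t') (h' : t' = t'') :
    castHom h ≫ castHom h' = castHom (h.trans h') := by
  apply Over.OverMorphism.ext
  simp

theorem map_castHom_injective {T : Scheme.{u}} {t t' : T ⟶ S} (h : t = t')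
    (x y : F.obj (op (Over.mk t'))) (hxy : F.map (castHom h).op x = F.map (castHom h).op y) :
    x = y := by
  subst h
  rw [castHom_rfl, op_id, F.map_id] at hxy
  exact hxy

/-- the Zariski sheaf condition for a functor on schemes over `S`, for covers with index types in
the universe `w`. -/
structure IsZarSheaf : Prop where
  sep : ∀ (T₀ : Scheme.{u}) (t : T₀ ⟶ S) (𝒱 : Scheme.OpenCover.{w} T₀)
    (b b' : F.obj (op (Over.mk t))),
    (∀ j, F.map (oHom (𝒱.f j) t).op b = F.map (oHom (𝒱.f j) t).op b') → b = b'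
  glue : ∀ (T₀ : Scheme.{u}) (t : T₀ ⟶ S) (𝒱 : Scheme.OpenCover.{w} T₀)
    (b : ∀ j, F.obj (op (Over.mk (𝒱.f j ≫ t)))),
    (∀ (i j : 𝒱.I₀) (T₁ : Scheme.{u}) (a₁ : T₁ ⟶ 𝒱.X i) (a₂ : T₁ ⟶ 𝒱.X j)
      (h : a₁ ≫ 𝒱.f i = a₂ ≫ 𝒱.f j),
      F.map (oHom a₁ (𝒱.f i ≫ t)).op (b i)
        = F.map (castHom (by rw [← Category.assoc, h, Category.assoc]) ≫
            oHom a₂ (𝒱.f j ≫ t) : Over.mk (a₁ ≫ 𝒱.f i ≫ t) ⟶ _).op (b j)) →
    ∃ β : F.obj (op (Over.mk t)), ∀ j, F.map (oHom (𝒱.f j) t).op β = b j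


variable {F}

theorem absF_isSheafFor (hF : IsZarSheaf.{u + 1} F) {Y : Scheme.{u}}
    (𝓤 : Scheme.OpenCover.{u + 1} Y) :
    Presieve.IsSheafFor (absF F) (Presieve.ofArrows 𝓤.X 𝓤.f) := by
  intro x hx
  -- the local data
  let tt : ∀ j, 𝓤.X j ⟶ S := fun j => (x (𝓤.f j) (.mk j)).1
  let bb : ∀ j, F.obj (op (Over.mk (tt j))) := fun j => (x (𝓤.f j) (.mk j)).2
  have hxx : ∀ j, x (𝓤.f j) (.mk j) = ⟨tt j, bb j⟩ := fun j => rfl
  have hcomp : ∀ (i j : 𝓤.I₀) (T₁ : Scheme.{u}) (a₁ : T₁ ⟶ 𝓤.X i) (a₂ : T₁ ⟶ 𝓤.X j)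
      (h : a₁ ≫ 𝓤.f i = a₂ ≫ 𝓤.f j),
      absMap F a₁ ⟨tt i, bb i⟩ = absMap F a₂ ⟨tt j, bb j⟩ := by
    intro i j T₁ a₁ a₂ h
    have := hx a₁ a₂ (Presieve.ofArrows.mk i) (Presieve.ofArrows.mk j) h
    exact this
  let t : Y ⟶ S := 𝓤.glueMorphisms tt (fun i j => by
    have := hcomp i j _ (pullback.fst (𝓤.f i) (𝓤.f j)) (pullback.snd (𝓤.f i) (𝓤.f j))
      pullback.condition
    exact congrArg Sigma.fst this)
  have ht : ∀ j, 𝓤.f j ≫ t = tt j := fun j => 𝓤.ι_glueMorphisms _ _ j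
  let b' : ∀ j, F.obj (op (Over.mk (𝓤.f j ≫ t))) := fun j => F.map (castHom (ht j)).op (bb j)
  obtain ⟨β, hβ⟩ := hF.glue Y t 𝓤 b' (by
    intro i j T₁ a₁ a₂ h
    obtain ⟨h1, h2⟩ := (absPt_ext_iff _ _).1 (hcomp i j T₁ a₁ a₂ h)
    have h1' : a₁ ≫ tt i = a₂ ≫ tt j := h1
    have h2' : F.map (oHom a₁ (tt i)).op (bb i)
      = F.map (castHom h1').op (F.map (oHom a₂ (tt j)).op (bb j)) := h2
    change F.map (oHom a₁ (𝓤.f i ≫ t)).op (F.map (castHom (ht i)).op (bb i))
      = F.map (castHom _ ≫ oHom a₂ (𝓤.f j ≫ t)).op (F.map (castHom (ht j)).op (bb j))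
    have e1 : F.map (oHom a₁ (𝓤.f i ≫ t)).op (F.map (castHom (ht i)).op (bb i))
        = F.map (castHom (by rw [ht i]) : Over.mk (a₁ ≫ 𝓤.f i ≫ t) ⟶ Over.mk (a₁ ≫ tt i)).op
          (F.map (oHom a₁ (tt i)).op (bb i)) := by
      rw [map_map, map_map]
      apply map_congr_left
      simp
    rw [e1, h2', map_map, map_map, map_map]
    apply map_congr_left
    simp)
  refine ⟨⟨t, β⟩, ?_, ?_⟩
  · rintro Y' f ⟨j⟩
    change absMap F (𝓤.f j) ⟨t, β⟩ = x (𝓤.f j) _
    rw [hxx j]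
    exact absPt_ext _ _ (ht j) (hβ j)
  · rintro ⟨t', β'⟩ hm
    have hm' : ∀ j, absMap F (𝓤.f j) ⟨t', β'⟩ = ⟨tt j, bb j⟩ := fun j =>
      hm (𝓤.f j) (Presieve.ofArrows.mk j)
    have htt : t' = t := by
      apply 𝓤.hom_ext
      intro j
      rw [ht j]
      exact congrArg Sigma.fst (hm' j)
    subst htt
    congr 1
    apply hF.sep Y t 𝓤
    intro j
    rw [hβ j]
    obtain ⟨h1, h2⟩ := (absPt_ext_iff _ _).1 (hm' j)
    exact h2

theorem absF_isSheaf (hF : IsZarSheaf.{u + 1} F) :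
    Presieve.IsSheaf Scheme.zariskiTopology (absF F) := by
  rw [Precoverage.isSheaf_toGrothendieck_iff_of_isStableUnderBaseChange]
  intro Y R hR
  obtain ⟨(𝓤 : Scheme.OpenCover Y), rfl⟩ := Scheme.exists_cover_of_mem_pretopology hR
  exact absF_isSheafFor hF 𝓤


section Rep
variable {E₀ : Scheme.{u}} (r : (absF F).RepresentableBy E₀)

/-- the structure morphism of the representing object. -/
noncomputable def repHom : E₀ ⟶ S := (r.homEquiv (𝟙 E₀)).1

/-- the universal section. -/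
noncomputable def repXi : F.obj (op (Over.mk (repHom r))) := (r.homEquiv (𝟙 E₀)).2

theorem rep_homEquiv {T₀ : Scheme.{u}} (a : T₀ ⟶ E₀) :
    r.homEquiv a = ⟨a ≫ repHom r, F.map (oHom a (repHom r)).op (repXi r)⟩ := by
  have := r.homEquiv_comp a (𝟙 E₀)
  rw [Category.comp_id] at this
  rw [this]
  rfl

theorem rep_homEquiv' {T₀ : Scheme.{u}} (t : T₀ ⟶ S) (a : T₀ ⟶ E₀) (h : a ≫ repHom r = t) :
    r.homEquiv a
      = ⟨t, F.map (Over.homMk a h : Over.mk t ⟶ Over.mk (repHom r)).op (repXi r)⟩ := by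
  subst h
  exact rep_homEquiv r a

/-- a representing object of the absolute functor gives one for the functor over `S`. -/
theorem rep_of_absF : Nonempty (F.RepresentableBy (Over.mk (repHom r))) := by
  have hbij : ∀ T : Over S, Function.Bijective
      (fun φ : T ⟶ Over.mk (repHom r) => F.map φ.op (repXi r)) := by
    intro T
    constructor
    · intro φ φ' h
      have h' : F.map φ.op (repXi r) = F.map φ'.op (repXi r) := h
      have e1 := rep_homEquiv' r T.hom φ.left (Over.w φ)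
      have e2 := rep_homEquiv' r T.hom φ'.left (Over.w φ')
      have e3 : r.homEquiv φ.left = r.homEquiv φ'.left := by
        rw [e1, e2]
        congr 1
      exact Over.OverMorphism.ext (r.homEquiv.injective e3)
    · intro b
      let a : T.left ⟶ E₀ := r.homEquiv.symm ⟨T.hom, b⟩
      have ha : r.homEquiv a = ⟨T.hom, b⟩ := r.homEquiv.apply_symm_apply _
      rw [rep_homEquiv r a] at ha
      obtain ⟨h1, h2⟩ := (absPt_ext_iff _ _).1 ha
      have h1' : a ≫ repHom r = T.hom := h1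
      have h2' : F.map (oHom a (repHom r)).op (repXi r) = F.map (castHom h1').op b := h2
      refine ⟨Over.homMk a h1', ?_⟩
      apply map_castHom_injective F h1'
      rw [← h2']
      change F.map (castHom h1').op (F.map (Over.homMk a h1' :
        Over.mk T.hom ⟶ Over.mk (repHom r)).op (repXi r)) = _
      rw [map_map]
      apply map_congr_left
      simp
  exact ⟨{
    homEquiv := fun {T} => Equiv.ofBijective _ (hbij T)
    homEquiv_comp := fun {T T'} f g => by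
      change F.map (f ≫ g).op (repXi r) = F.map f.op (F.map g.op (repXi r))
      rw [map_map] }⟩

end Rep

end Groth.Agent.Lib.Helper5.LocRepF
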