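import Groth.Agent.Lib.Helper5.LocRepF.Abs

set_option autoImplicit false
universe w u
open CategoryTheory CategoryTheory.Limits AlgebraicGeometry Opposite

namespace Groth.Agent.Lib.Helper5.LocRepF

variable {S : Scheme.{u}} {F : (Over S)ᵒᵖ ⥤ Type u}

/-- injectivity of the classifying map can be checked on affine test schemes. -/
theorem inj_of_affine (W : Over S) (ξ : F.obj (op W))
    (h : ∀ T : Over S, IsAffine T.left → Function.Injective (fun a : T ⟶ W => F.map a.op ξ)) :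
    ∀ T : Over S, Function.Injective (fun a : T ⟶ W => F.map a.op ξ) := by
  intro T a a' haa
  have haa' : F.map a.op ξ = F.map a'.op ξ := haa
  apply Over.OverMorphism.ext
  apply T.left.affineCover.hom_ext
  intro j
  let Tj : Over S := Over.mk (T.left.affineCover.f j ≫ T.hom)
  let ιj : Tj ⟶ T := Over.homMk (T.left.affineCover.f j) rfl
  have h1 : F.map (ιj ≫ a).op ξ = F.map (ιj ≫ a').op ξ := by
    rw [← map_map, ← map_map, haa']
  have h2 : ιj ≫ a = ιj ≫ a' := h Tj (by change IsAffine (T.left.affineCover.X j); infer_instance) h1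
  exact congrArg (fun k => k.left) h2

/-- a section which locally comes from a morphism to `W` comes from a morphism to `W`. -/
theorem exists_of_local (hF : IsZarSheaf.{w} F) (W : Over S) (ξ : F.obj (op W))
    (hinj : ∀ T : Over S, Function.Injective (fun a : T ⟶ W => F.map a.op ξ))
    {T₀ : Scheme.{u}} (t : T₀ ⟶ S) (x : F.obj (op (Over.mk t))) (𝒱 : Scheme.OpenCover.{w} T₀)
    (h : ∀ j, ∃ a : Over.mk (𝒱.f j ≫ t) ⟶ W, F.map a.op ξ = F.map (oHom (𝒱.f j) t).op x) :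
    ∃ a : Over.mk t ⟶ W, F.map a.op ξ = x := by
  choose a ha using h
  have hcompat : ∀ i j, pullback.fst (𝒱.f i) (𝒱.f j) ≫ (a i).left =
      pullback.snd (𝒱.f i) (𝒱.f j) ≫ (a j).left := by
    intro i j
    let p₁ := pullback.fst (𝒱.f i) (𝒱.f j)
    let p₂ := pullback.snd (𝒱.f i) (𝒱.f j)
    have hc : p₁ ≫ 𝒱.f i = p₂ ≫ 𝒱.f j := pullback.condition
    have hc' : p₁ ≫ 𝒱.f i ≫ t = p₂ ≫ 𝒱.f j ≫ t := by
      rw [← Category.assoc, hc, Category.assoc]
    let m₁ : Over.mk (p₁ ≫ 𝒱.f i ≫ t) ⟶ W := oHom p₁ (𝒱.f i ≫ t) ≫ a i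
    let m₂ : Over.mk (p₁ ≫ 𝒱.f i ≫ t) ⟶ W := (castHom hc' ≫ oHom p₂ (𝒱.f j ≫ t)) ≫ a j
    have e : m₁ = m₂ := by
      apply hinj
      change F.map m₁.op ξ = F.map m₂.op ξ
      have e1 : F.map m₁.op ξ = F.map (oHom p₁ (𝒱.f i ≫ t) ≫ oHom (𝒱.f i) t).op x := by
        rw [← map_map F _ (oHom (𝒱.f i) t), ← ha i, map_map]
      have e2 : F.map m₂.op ξ =
          F.map ((castHom hc' ≫ oHom p₂ (𝒱.f j ≫ t)) ≫ oHom (𝒱.f j) t).op x := by
        rw [← map_map F _ (oHom (𝒱.f j) t), ← ha j, map_map]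
      rw [e1, e2]
      apply map_congr_left
      simp [p₁, p₂, pullback.condition]
    have := congrArg (fun k => k.left) e
    simpa [m₁, m₂] using this
  let a₀ : T₀ ⟶ W.left := 𝒱.glueMorphisms (fun j => (a j).left) hcompat
  have ha₀ : ∀ j, 𝒱.f j ≫ a₀ = (a j).left := fun j => 𝒱.ι_glueMorphisms _ _ j
  have hw : a₀ ≫ W.hom = t := by
    apply 𝒱.hom_ext
    intro j
    rw [← Category.assoc, ha₀, Over.w (a j)]
    rfl
  let â : Over.mk t ⟶ W := Over.homMk a₀ hw
  refine ⟨â, ?_⟩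
  apply hF.sep T₀ t 𝒱
  intro j
  rw [map_map, ← ha j]
  apply map_congr_left
  simpa [â] using ha₀ j

end Groth.Agent.Lib.Helper5.LocRepF
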