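import Mathlib

set_option autoImplicit false
universe v u₁
open CategoryTheory CategoryTheory.Limits Opposite

namespace Groth.Agent.Lib.Helper5.LocRepF

variable {C : Type u₁} [Category.{v} C] [HasPullbacks C] {pt : C} (hpt : IsTerminal pt)
  {F G K : Cᵒᵖ ⥤ Type v} {M N : C} (r : F.RepresentableBy M) (s : G.RepresentableBy N)
  (α : F ⟶ G) (e : ∀ T : C, G.obj (op T))
  (he : ∀ {T T' : C} (φ : T' ⟶ T), G.map φ.op (e T) = e T')
  (κ : K ⟶ F) (hκ : ∀ T : C, Function.Injective (κ.app (op T)))
  (hK : ∀ (T : C) (b : F.obj (op T)), (∃ c, κ.app (op T) c = b) ↔ α.app (op T) b = e T)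

/-- the classifying morphism of `α`. -/
noncomputable def fibM : M ⟶ N := s.homEquiv.symm (α.app _ (r.homEquiv (𝟙 M)))

/-- the point classifying the section `e`. -/
noncomputable def fibP : pt ⟶ N := s.homEquiv.symm (e pt)

theorem fib_homEquiv_m {T : C} (a : T ⟶ M) :
    s.homEquiv (a ≫ fibM r s α) = α.app (op T) (r.homEquiv a) := by
  rw [s.homEquiv_comp, fibM, Equiv.apply_symm_apply]
  have h1 := r.homEquiv_comp a (𝟙 M)
  rw [Category.comp_id] at h1
  rw [h1]
  exact (NatTrans.naturality_apply α a.op (r.homEquiv (𝟙 M))).symm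

include he in
theorem fib_homEquiv_p {T : C} (c : T ⟶ pt) : s.homEquiv (c ≫ fibP s e) = e T := by
  rw [s.homEquiv_comp, fibP, Equiv.apply_symm_apply, he]

include he in
theorem fib_key {T : C} (a : T ⟶ M) (c : T ⟶ pt) :
    a ≫ fibM r s α = c ≫ fibP s e ↔ α.app (op T) (r.homEquiv a) = e T := by
  rw [← fib_homEquiv_m r s α a, ← fib_homEquiv_p s e he c]
  exact s.homEquiv.injective.eq_iff.symm

include hpt he hκ hK r s in
/-- the fibre of a morphism of representable functors over a section is representable. -/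
theorem isRepresentable_fibre : K.IsRepresentable := by
  let R : C := pullback (fibM r s α) (fibP (pt := pt) s e)
  let π₁ : R ⟶ M := pullback.fst _ _
  let π₂ : R ⟶ pt := pullback.snd _ _
  have hex : ∀ {T : C} (u : T ⟶ R), ∃ c, κ.app (op T) c = r.homEquiv (u ≫ π₁) := by
    intro T u
    rw [hK]
    rw [← fib_key r s α e he (u ≫ π₁) (u ≫ π₂), Category.assoc, Category.assoc,
      pullback.condition]
  let toFun : ∀ {T : C}, (T ⟶ R) → K.obj (op T) := fun u => (hex u).choose
  have htoFun : ∀ {T : C} (u : T ⟶ R), κ.app (op T) (toFun u) = r.homEquiv (u ≫ π₁) :=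
    fun u => (hex u).choose_spec
  have hbij : ∀ T : C, Function.Bijective (toFun (T := T)) := by
    intro T
    constructor
    · intro u u' h
      have h1 : r.homEquiv (u ≫ π₁) = r.homEquiv (u' ≫ π₁) := by
        rw [← htoFun, ← htoFun, h]
      apply pullback.hom_ext
      · exact r.homEquiv.injective h1
      · exact hpt.hom_ext _ _
    · intro c
      let a : T ⟶ M := r.homEquiv.symm (κ.app (op T) c)
      have ha : r.homEquiv a = κ.app (op T) c := Equiv.apply_symm_apply _ _
      have h1 : a ≫ fibM r s α = hpt.from T ≫ fibP s e := by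
        rw [fib_key r s α e he, ha, ← hK]
        exact ⟨c, rfl⟩
      refine ⟨pullback.lift a (hpt.from T) h1, ?_⟩
      apply hκ T
      rw [htoFun, pullback.lift_fst, ha]
  exact ⟨⟨R, ⟨{
    homEquiv := fun {T} => Equiv.ofBijective _ (hbij T)
    homEquiv_comp := fun {T T'} f u => by
      apply hκ T
      change κ.app (op T) (toFun (f ≫ u)) = κ.app (op T) (K.map f.op (toFun u))
      rw [htoFun, NatTrans.naturality_apply, htoFun, Category.assoc, r.homEquiv_comp] }⟩⟩⟩

end Groth.Agent.Lib.Helper5.LocRepF
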